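/-
Auxiliary facts for Q-groups: homomorphisms out of `SL₂(q)`, `Out(PSL₂(q))`, automorphisms of `A₇`,
Sylow subgroups of normal subgroups and of quotients by odd kernels.
-/
import Cfsg.Agent.EqLemmas
import Cfsg.Agent.S2602
import Cfsg.Agent.S2119
import Cfsg.Agent.Lib.AltAut.Odd
import Cfsg.Agent.Lib.SL2Natural.Basic
import Cfsg.Prelude.Def_CaseTheorems

set_option autoImplicit false

namespace Cfsg.Agent.QGroup

open Subgroup
open scoped Pointwise

theorem sl_two_hom_two_group {F : Type*} [Field F] [Fintype F] (hodd : Odd (Fintype.card F))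
    {A : Type*} [Group A] (hA : IsPGroup 2 A) (f : Matrix.SpecialLinearGroup (Fin 2) F →* A) :
    f = 1 := by
  obtain ⟨n, hp, hn⟩ := FiniteField.card F (ringChar F)
  have hp2 : Nat.Coprime 2 (ringChar F) := by
    refine (Nat.coprime_primes Nat.prime_two hp).2 fun h => ?_
    rw [hn, ← h] at hodd
    exact (Nat.not_even_iff_odd.2 hodd) (Nat.even_pow.2 ⟨even_two, n.ne_zero⟩)
  have hkill : ∀ x, x ^ ringChar F = 1 → f x = 1 := fun x hx => by
    obtain ⟨j, hj⟩ := hA (f x)
    rw [← orderOf_eq_one_iff]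
    exact Nat.eq_one_of_dvd_coprimes (hp2.pow_left j) (orderOf_dvd_of_pow_eq_one hj)
      (orderOf_dvd_of_pow_eq_one (by rw [← map_pow, hx, map_one]))
  have hl : ∀ (c : F) (k : ℕ), Quadratic.lowerE c ^ k = Quadratic.lowerE ((k : F) * c) := fun c k => by
    induction k with
    | zero =>
      refine Subtype.ext ?_
      simp [Quadratic.lowerE_val, Matrix.one_fin_two]
    | succ k ih =>
      rw [pow_succ, ih]
      refine Subtype.ext ?_
      show (!![1, 0; (k : F) * c, 1] * !![1, 0; c, 1] : Matrix (Fin 2) (Fin 2) F) =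
        !![1, 0; ((k + 1 : ℕ) : F) * c, 1]
      ext i j
      fin_cases i <;> fin_cases j <;> simp [Matrix.mul_apply, Fin.sum_univ_two]
      ring
  refine MonoidHom.eq_of_eqOn_dense (SL2Natural.closure_upper_lower (F := F)) ?_
  rintro _ (⟨c, rfl⟩ | ⟨c, rfl⟩)
  · exact hkill _ (Quadratic.upperE_pow_char _ c)
  · refine hkill _ ?_
    rw [hl, CharP.cast_eq_zero, zero_mul]
    exact Subtype.ext (Matrix.one_fin_two (α := F)).symm

/-- `Out(PSL₂(q))` is abelian. -/
theorem out_psl_two_comm {F : Type} [Field F] [Fintype F] (hodd : Odd (Fintype.card F))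
    (h3 : 3 < Fintype.card F)
    (a b : Cfsg.Out (Matrix.ProjectiveSpecialLinearGroup (Fin 2) F)) : a * b = b * a := by
  obtain ⟨n, hp, hn⟩ := FiniteField.card F (ringChar F)
  haveI := Fact.mk hp
  obtain ⟨φ, -, -, hcard⟩ := S2602.result (F := F) (p := ringChar F) (f := (n : ℕ)) n.pos hn (by omega)
  have h2 : Nat.card φ.ker = 2 := by
    rw [hcard, ← hn]
    exact Nat.gcd_eq_left (by obtain ⟨k, hk⟩ := hodd; omega)
  refine commutative_of_cyclic_center_quotient φ (fun x hx => mem_center_iff.2 fun g => ?_) a b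
  by_cases hx1 : x = 1
  · rw [hx1, mul_one, one_mul]
  obtain ⟨c, -, hc⟩ := (Nat.card_eq_two_iff' (1 : φ.ker)).1 h2
  have hg : g * x * g⁻¹ ∈ φ.ker := φ.normal_ker.conj_mem x hx g
  have e1 := hc ⟨x, hx⟩ fun h => hx1 (congrArg Subtype.val h)
  have e2 := hc ⟨_, hg⟩ fun h => hx1 (by
    have := congrArg Subtype.val h
    rwa [Subgroup.coe_one, conj_eq_one_iff] at this)
  exact mul_inv_eq_iff_eq_mul.1 (congrArg Subtype.val (e2.trans e1.symm))

/-- Two-elements of `Aut(A₇) = S₇` have order at most four. -/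
theorem mulAut_alt_seven_pow_four (θ : MulAut (alternatingGroup (Fin 7))) {j : ℕ}
    (h : θ ^ 2 ^ j = 1) : θ ^ 4 = 1 := by
  classical
  obtain ⟨σ, rfl⟩ := AltAut.exists_conjNormal_of_threeCycle (n := 7) (by norm_num) θ
    (AltAut.threeCycle_of_ne_six (by norm_num) θ)
  rw [← map_pow] at h ⊢
  have h1 : σ ^ 2 ^ j = 1 :=
    S2119.conjNormal_injective (n := 7) (by norm_num) (h.trans (map_one _).symm)
  suffices σ ^ 4 = 1 by rw [this, map_one]
  rw [← orderOf_dvd_iff_pow_eq_one, ← Equiv.Perm.lcm_cycleType, Multiset.lcm_dvd]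
  intro c hc
  have hd : c ∣ 2 ^ j := by
    refine dvd_trans ?_ (orderOf_dvd_of_pow_eq_one h1)
    exact Equiv.Perm.dvd_of_mem_cycleType hc
  have hle : c ≤ 7 := by
    refine (Multiset.single_le_sum (fun x _ => Nat.zero_le x) c hc).trans ?_
    rw [Equiv.Perm.sum_cycleType]
    exact (Finset.card_le_univ _).trans (by simp)
  obtain ⟨i, -, rfl⟩ := (Nat.dvd_prime_pow Nat.prime_two).1 hd
  have hi : i ≤ 2 := by
    by_contra hi
    have : 2 ^ 3 ≤ 2 ^ i := Nat.pow_le_pow_right two_pos (by omega)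
    omega
  exact (show 2 ^ i ∣ 2 ^ 2 from pow_dvd_pow 2 hi).trans (by norm_num)

/-- A Sylow subgroup meets a normal subgroup in a Sylow subgroup. -/
theorem exists_sylow_subgroupOf {G : Type*} [Group G] [Finite G] {p : ℕ} [Fact p.Prime]
    (S : Sylow p G) (N : Subgroup G) [N.Normal] :
    ∃ Q : Sylow p N, (Q : Subgroup N) = (S : Subgroup G).subgroupOf N := by
  have hW : IsPGroup p ((S : Subgroup G).subgroupOf N) :=
    S.2.comap_of_injective N.subtype N.subtype_injective
  obtain ⟨Q, hQ⟩ := hW.exists_le_sylow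
  refine ⟨Q, (eq_of_le_of_card_ge hQ ?_).symm⟩
  obtain ⟨P', hP'⟩ := (Q.2.map N.subtype).exists_le_sylow
  obtain ⟨g, hg⟩ := MulAction.exists_smul_eq G P' S
  have hmem : ∀ x ∈ (Q : Subgroup N), g * (x : G) * g⁻¹ ∈ (S : Subgroup G) := fun x hx => by
    have h1 : MulAut.conj g • (x : G) ∈ MulAut.conj g • (P' : Subgroup G) :=
      smul_mem_pointwise_smul _ _ _ (hP' ⟨x, hx, rfl⟩)
    rw [← hg]
    exact h1
  exact Nat.card_le_card_of_injective
    (fun x : (Q : Subgroup N) => (⟨⟨g * ((x : N) : G) * g⁻¹,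
      Subgroup.Normal.conj_mem inferInstance _ (x : N).2 g⟩, hmem x x.2⟩ :
        (S : Subgroup G).subgroupOf N))
    fun x y h => Subtype.ext (Subtype.ext (mul_left_cancel (mul_right_cancel
      (congrArg (fun w : (S : Subgroup G).subgroupOf N => ((w : N) : G)) h))))

/-- A homomorphism with kernel of order prime to `p` restricts to isomorphisms of Sylow subgroups. -/
theorem sylow_equiv_mapSurjective {G H : Type*} [Group G] [Group H] [Finite G] [Finite H] {p : ℕ}
    [Fact p.Prime] {f : G →* H} (hf : Function.Surjective f) (hker : (Nat.card f.ker).Coprime p)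
    (P : Sylow p G) :
    Nonempty ((P : Subgroup G) ≃* (P.mapSurjective hf : Subgroup H)) := by
  let g : (P : Subgroup G) →* (P.mapSurjective hf : Subgroup H) :=
    (f.comp (P : Subgroup G).subtype).codRestrict _ fun x => ⟨x, x.2, rfl⟩
  refine ⟨MulEquiv.ofBijective g ⟨(injective_iff_map_eq_one g).2 fun x hx => ?_, fun y => ?_⟩⟩
  · obtain ⟨i, hi⟩ := IsPGroup.iff_orderOf.1 P.2 x
    have h1 : orderOf (x : G) ∣ Nat.card f.ker :=
      Subgroup.orderOf_dvd_natCard _ (MonoidHom.mem_ker.2 (congrArg Subtype.val hx))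
    rw [Subgroup.orderOf_coe, hi] at h1
    exact orderOf_eq_one_iff.1 (hi.trans (Nat.eq_one_of_dvd_coprimes (hker.pow_right i) h1 dvd_rfl))
  · obtain ⟨x, hx, hxy⟩ := y.2
    exact ⟨⟨x, hx⟩, Subtype.ext hxy⟩

theorem isQuasiDihedral_congr {A B : Type*} [Group A] [Group B] (e : A ≃* B)
    (h : Cfsg.IsQuasiDihedral A) : Cfsg.IsQuasiDihedral B := by
  obtain ⟨n, hn, hc, x, y, hx, hy, hr⟩ := h
  refine ⟨n, hn, by rw [← Nat.card_congr e.toEquiv, hc], e x, e y, ?_, ?_, ?_⟩
  · rw [← MulEquiv.coe_toMonoidHom, orderOf_injective _ e.injective, hx]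
  · rw [← MulEquiv.coe_toMonoidHom, orderOf_injective _ e.injective, hy]
  · rw [← map_inv, ← map_mul, ← map_mul, hr, map_pow]

theorem isWreathed_congr {A B : Type*} [Group A] [Group B] (e : A ≃* B)
    (h : Cfsg.IsWreathed A) : Cfsg.IsWreathed B := by
  obtain ⟨n, hn, hc, x, y, z, hx, hxy, hd, hz, hr⟩ := h
  refine ⟨n, hn, by rw [← Nat.card_congr e.toEquiv, hc], e x, e y, e z, ?_, ?_, ?_, ?_, ?_⟩
  · rw [← MulEquiv.coe_toMonoidHom, orderOf_injective _ e.injective, hx]
  · rw [← map_mul, ← map_mul, hxy]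
  · rw [show zpowers (e x) = (zpowers x).map e.toMonoidHom from (MonoidHom.map_zpowers e.toMonoidHom x).symm,
      show zpowers (e y) = (zpowers y).map e.toMonoidHom from (MonoidHom.map_zpowers e.toMonoidHom y).symm,
      ← map_inf _ _ _ e.injective, hd, Subgroup.map_bot]
  · rw [← MulEquiv.coe_toMonoidHom, orderOf_injective _ e.injective, hz]
  · rw [← map_inv, ← map_mul, ← map_mul, hr]

theorem perm_three_key (s t : Equiv.Perm (Fin 3))
    (hs : s ^ 3 = 1) (ht : t ^ 2 = 1) (hc : s * t = t * s) : s = 1 ∨ t = 1 := by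
  have key : ∀ s t : Equiv.Perm (Fin 3),
      ¬ (s * s * s = 1 ∧ t * t = 1 ∧ s * t = t * s) ∨ (s = 1 ∨ t = 1) := by
    decide +kernel
  exact (key s t).resolve_left fun h => h
    ⟨by rw [← hs, pow_succ, pow_two], by rw [← ht, pow_two], hc⟩

/-- An automorphism group of a four group has no abelian subgroup with elements of orders 2 and 3. -/
theorem mulAut_four_commute {W : Type*} [Group W] (hW : Nat.card W = 4) (a b : MulAut W)
    (ha : a ^ 3 = 1) (hb : ∃ j, b ^ 2 ^ j = 1) (hc : a * b = b * a) : a = 1 ∨ b = 1 := by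
  classical
  haveI : Finite W := Nat.finite_of_card_ne_zero (by omega)
  have h3 : Nat.card {w : W // w ≠ 1} = 3 := by
    letI := Fintype.ofFinite W
    rw [Nat.card_eq_fintype_card, Fintype.card_subtype_compl, Fintype.card_subtype_eq,
      ← Nat.card_eq_fintype_card, hW]
  let f : MulAut W →* Equiv.Perm {w : W // w ≠ 1} :=
    { toFun := fun φ => φ.toEquiv.subtypeEquiv (fun w => by simp)
      map_one' := by ext w; rfl
      map_mul' := fun φ ψ => by ext w; rfl }
  have hf : Function.Injective f := by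
    intro φ ψ h
    ext w
    by_cases hw : w = 1
    · simp [hw]
    · exact congrArg Subtype.val (Equiv.congr_fun h ⟨w, hw⟩)
  let g : MulAut W →* Equiv.Perm (Fin 3) :=
    ((Finite.equivFinOfCardEq h3).permCongrHom).toMonoidHom.comp f
  have hg : Function.Injective g := (Finite.equivFinOfCardEq h3).permCongrHom.injective.comp hf
  obtain ⟨j, hj⟩ := hb
  have h6 : g b ^ 6 = 1 := by
    have : Nat.card (Equiv.Perm (Fin 3)) = 6 := by rw [Nat.card_perm, Nat.card_fin]; rfl
    rw [← this]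
    exact pow_card_eq_one'
  have h2 : g b ^ 2 = 1 := by
    have hd := Nat.dvd_gcd (orderOf_dvd_of_pow_eq_one h6)
      (orderOf_dvd_of_pow_eq_one (show g b ^ 2 ^ j = 1 by rw [← map_pow, hj, map_one]))
    rw [← orderOf_dvd_iff_pow_eq_one]
    refine hd.trans ?_
    obtain ⟨i, -, hi⟩ := (Nat.dvd_prime_pow Nat.prime_two).1 (Nat.gcd_dvd_right 6 (2 ^ j))
    have h := Nat.gcd_dvd_left 6 (2 ^ j)
    rw [hi] at h ⊢
    rcases i with _ | _ | i
    · exact one_dvd _
    · exact dvd_rfl
    · exfalso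
      have h' : 4 ∣ 6 := (dvd_trans ⟨2 ^ i, by ring⟩ h)
      norm_num at h'
  rcases perm_three_key (g a) (g b) (by rw [← map_pow, ha, map_one]) h2 (by rw [← map_mul, hc, map_mul]) with h | h
  · exact Or.inl (hg (h.trans (map_one g).symm))
  · exact Or.inr (hg (h.trans (map_one g).symm))

end Cfsg.Agent.QGroup
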