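/-
Recognition of `SL₂(q)`, `q` odd, `q > 3`, as the only perfect double cover of `PSL₂(q)`.

Main result: `sl_two_of_double_cover`.  Uses the Schur multipliers of `SL₂(q)` (S2117, S2118).
-/
import Cfsg.Agent.EqLemmas
import Cfsg.Agent.S2117
import Cfsg.Agent.S2118
import Cfsg.Agent.Lib.GLOrder.Basic
import Cfsg.Agent.Lib.Law.Classical

set_option autoImplicit false

namespace Cfsg.Agent.QGroup

open Subgroup Matrix
open scoped commutatorElement

universe v

/-- `SL₂(q)`, `q` odd, has no central extension by a group of order two inside the derived group. -/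
theorem ker_eq_bot_of_stem {F : Type} [Field F] [Fintype F] (hodd : Odd (Fintype.card F))
    {Γ : Type v} [Group Γ] [Finite Γ] (σ : Γ →* SpecialLinearGroup (Fin 2) F)
    (hσ : Cfsg.IsStemExtension σ) (h2 : Nat.card σ.ker ∣ 2) : σ.ker = ⊥ := by
  classical
  let e : Shrink.{0} Γ ≃* Γ := Shrink.mulEquiv
  haveI : Finite (Shrink.{0} Γ) := Finite.of_equiv _ e.symm.toEquiv
  set τ : Shrink.{0} Γ →* SpecialLinearGroup (Fin 2) F := σ.comp e.toMonoidHom with hτ
  have hker : τ.ker = σ.ker.comap e.toMonoidHom := by rw [hτ, MonoidHom.comap_ker]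
  have hst : Cfsg.IsStemExtension τ := by
    refine ⟨hσ.1.comp e.surjective, fun x hx => ?_, fun x hx => ?_⟩
    · rw [hker] at hx
      refine mem_center_iff.2 fun y => e.injective ?_
      rw [map_mul, map_mul]
      exact mem_center_iff.1 (hσ.2.1 hx) _
    · rw [hker] at hx
      have h := mem_map_of_mem e.symm.toMonoidHom (hσ.2.2 hx)
      rw [map_commutator_eq, MonoidHom.range_eq_top.2 e.symm.surjective] at h
      rw [commutator_def]
      simpa using h
  obtain ⟨n, hn, π, hπ⟩ : ∃ n, Nat.Coprime n 2 ∧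
      ∃ π : Multiplicative (ZMod n) →* τ.ker, Function.Surjective π := by
    by_cases h9 : Fintype.card F = 9
    · exact ⟨3, by norm_num, (Cfsg.Agent.S2118.result h9).2 _ τ hst⟩
    · exact ⟨1, by norm_num,
        (Cfsg.Agent.S2117.result (fun h4 => by rw [h4] at hodd; revert hodd; decide) h9).2 _ τ hst⟩
  haveI : NeZero n := ⟨fun h => by rw [h] at hn; norm_num at hn⟩
  have h1 : Nat.card τ.ker ∣ n := by
    have h := card_range_dvd π
    rw [MonoidHom.range_eq_top.2 hπ, card_top] at h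
    simpa using h
  have h3 : Nat.card τ.ker = Nat.card σ.ker := by
    rw [hker]
    exact Nat.card_congr (e.toEquiv.subtypeEquiv fun a => Iff.rfl)
  rw [h3] at h1
  exact eq_bot_of_card_eq _ (Nat.eq_one_of_dvd_coprimes hn h1 h2)

/-- **A perfect double cover of `PSL₂(q)`, `q > 3` odd, is `SL₂(q)`.** -/
theorem sl_two_of_double_cover {F : Type} [Field F] [Fintype F] (hodd : Odd (Fintype.card F))
    (h3 : 3 < Fintype.card F) {X : Type v} [Group X] [Finite X] [Group.IsPerfect X]
    (f : X →* ProjectiveSpecialLinearGroup (Fin 2) F) (hf : Function.Surjective f)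
    (hker : f.ker ≤ center X) (hk : Nat.card f.ker = 2) :
    Nonempty (X ≃* SpecialLinearGroup (Fin 2) F) := by
  classical
  set SL := SpecialLinearGroup (Fin 2) F
  set π : SL →* ProjectiveSpecialLinearGroup (Fin 2) F := QuotientGroup.mk' _ with hπ
  have hπs : Function.Surjective π := QuotientGroup.mk'_surjective _
  set Y : Subgroup (SL × X) := (π.comp (MonoidHom.fst SL X)).eqLocus (f.comp (MonoidHom.snd SL X))
    with hY
  have hmem : ∀ {p : SL × X}, p ∈ Y ↔ π p.1 = f p.2 := Iff.rfl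
  set p1 : Y →* SL := (MonoidHom.fst SL X).comp Y.subtype with hp1
  set p2 : Y →* X := (MonoidHom.snd SL X).comp Y.subtype with hp2
  have hp1s : Function.Surjective p1 := fun a => by
    obtain ⟨x, hx⟩ := hf (π a)
    exact ⟨⟨(a, x), hmem.2 hx.symm⟩, rfl⟩
  have hp2s : Function.Surjective p2 := fun x => by
    obtain ⟨a, ha⟩ := hπs (f x)
    exact ⟨⟨(a, x), hmem.2 ha⟩, rfl⟩
  have hSL : commutator SL = ⊤ := Law.commutator_sl2_eq_top (by omega)
  set Γ : Subgroup Y := commutator Y with hΓ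
  have hΓ1 : Γ.map p1 = ⊤ := by
    rw [hΓ, commutator_def, map_commutator, map_top_of_surjective p1 hp1s, ← commutator_def, hSL]
  have hΓ2 : Γ.map p2 = ⊤ := by
    rw [hΓ, commutator_def, map_commutator, map_top_of_surjective p2 hp2s, ← commutator_def,
      Group.IsPerfect.commutator_eq_top]
  have hK : p1.ker ≤ center Y := by
    intro y hy
    have hy1 : (y : SL × X).1 = 1 := hy
    have hy2 : (y : SL × X).2 ∈ f.ker := by
      rw [MonoidHom.mem_ker, ← hmem.1 y.2, hy1, map_one]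
    refine mem_center_iff.2 fun w => Subtype.ext (Prod.ext ?_ ?_)
    · simp [hy1]
    · exact mem_center_iff.1 (hker hy2) _
  have hΓp : ⁅Γ, Γ⁆ = Γ := by
    refine le_antisymm (commutator_le_self _) ?_
    conv_lhs => rw [hΓ, commutator_def]
    refine commutator_le.2 fun a _ b _ => ?_
    have hdec : ∀ w : Y, ∃ g ∈ Γ, ∃ k ∈ center Y, w = g * k := fun w => by
      obtain ⟨g, hg, hgw⟩ := (show p1 w ∈ Γ.map p1 by rw [hΓ1]; exact mem_top _)
      refine ⟨g, hg, g⁻¹ * w, hK ?_, by group⟩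
      rw [MonoidHom.mem_ker, map_mul, map_inv, hgw, inv_mul_cancel]
    obtain ⟨g, hg, k, hk', rfl⟩ := hdec a
    obtain ⟨g', hg', k', hk'', rfl⟩ := hdec b
    have e : ⁅g * k, g' * k'⁆ = ⁅g, g'⁆ := by
      have c1 := mem_center_iff.1 hk'
      have c2 := mem_center_iff.1 hk''
      rw [commutatorElement_def, commutatorElement_def,
        show g * k * (g' * k') * (g * k)⁻¹ * (g' * k')⁻¹ =
          g * (k * g') * (k' * k⁻¹) * g⁻¹ * k'⁻¹ * g'⁻¹ by group, ← c1 g',
        show g * (g' * k) * (k' * k⁻¹) * g⁻¹ * k'⁻¹ * g'⁻¹ =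
          g * g' * (k * k' * k⁻¹) * g⁻¹ * k'⁻¹ * g'⁻¹ by group, ← c1 k',
        show g * g' * (k' * k * k⁻¹) * g⁻¹ * k'⁻¹ * g'⁻¹ =
          g * g' * (k' * g⁻¹) * k'⁻¹ * g'⁻¹ by group, ← c2 g⁻¹]
      group
    rw [e]
    exact commutator_mem_commutator hg hg'
  haveI hperf : Group.IsPerfect Γ := ⟨map_injective Γ.subtype_injective (by
    rw [commutator_def, map_commutator, ← MonoidHom.range_eq_map, range_subtype, hΓp])⟩
  set σ : Γ →* SL := p1.comp Γ.subtype with hσ
  have hσs : Function.Surjective σ := fun a => by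
    obtain ⟨g, hg, hga⟩ := (show a ∈ Γ.map p1 by rw [hΓ1]; exact mem_top _)
    exact ⟨⟨g, hg⟩, hga⟩
  have hst : Cfsg.IsStemExtension σ := by
    refine ⟨hσs, fun x hx => mem_center_iff.2 fun y => Subtype.ext ?_, ?_⟩
    · exact mem_center_iff.1 (hK (show p1 x = 1 from hx)) y
    · rw [Group.IsPerfect.commutator_eq_top]
      exact le_top
  have h2 : Nat.card σ.ker ∣ 2 := by
    have hx : ∀ x : σ.ker, p2 ((x : Γ) : Y) ∈ f.ker := fun x => by
      have h1 : p1 ((x : Γ) : Y) = 1 := x.2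
      rw [MonoidHom.mem_ker]
      show f ((x : Γ) : Y).1.2 = 1
      rw [← hmem.1 ((x : Γ) : Y).2, show ((x : Γ) : Y).1.1 = 1 from h1, map_one]
    let ψ : σ.ker →* f.ker := ((p2.comp Γ.subtype).comp σ.ker.subtype).codRestrict f.ker hx
    have hψ : Function.Injective ψ := fun x y h => by
      have h2 : p2 ((x : Γ) : Y) = p2 ((y : Γ) : Y) := congrArg Subtype.val h
      have h1 : p1 ((x : Γ) : Y) = p1 ((y : Γ) : Y) := x.2.trans y.2.symm
      exact Subtype.ext (Subtype.ext (Subtype.ext (Prod.ext h1 h2)))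
    exact (card_dvd_of_injective ψ hψ).trans hk.dvd
  have hbot : σ.ker = ⊥ := ker_eq_bot_of_stem hodd σ hst h2
  let e : Γ ≃* SL := MulEquiv.ofBijective σ ⟨(MonoidHom.ker_eq_bot_iff σ).1 hbot, hσs⟩
  let h : SL →* X := (p2.comp Γ.subtype).comp e.symm.toMonoidHom
  have hsurj : Function.Surjective h := fun x => by
    obtain ⟨g, hg, hgx⟩ := (show x ∈ Γ.map p2 by rw [hΓ2]; exact mem_top _)
    refine ⟨e ⟨g, hg⟩, ?_⟩
    show p2 ((e.symm (e ⟨g, hg⟩) : Γ) : Y) = x
    rw [e.symm_apply_apply]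
    exact hgx
  have hcard : Nat.card SL = Nat.card X := by
    rw [← f.ker.card_mul_index, hk, index_ker, MonoidHom.range_eq_top.2 hf, card_top,
      GLOrder.card_PSL_two_of_odd (by rwa [Nat.card_eq_fintype_card]), GLOrder.card_SL_two]
  exact ⟨(MulEquiv.ofBijective h ((Nat.bijective_iff_surjective_and_card h).2 ⟨hsurj, hcard⟩)).symm⟩

end Cfsg.Agent.QGroup
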