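/-
Core-free groups without subgroups of index 2 with generalized quaternion Sylow 2-subgroups.

Main results: `involution_central`, `solvable_case` (`SL₂(3)`), `nonsolvable_case` (`SL₂(q)` or a
double cover of `A₇` as last derived term, given the Gorenstein–Walter theorem for simple groups).
-/
import Cfsg.Agent.EqLemmas
import Cfsg.Agent.Lib.QGroup.SLCover
import Cfsg.Agent.Lib.GWReduce.Main
import Cfsg.Agent.Lib.RankOneSylow.Dihedral
import Cfsg.Agent.Lib.Transfer.QuaternionFusion
import Cfsg.Agent.Lib.QDWreath.LocalIndex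
import Cfsg.Agent.Lib.Solvable.Fitting
import Cfsg.Agent.Lib.Frobenius.Residual
import Cfsg.Agent.S0201
import Cfsg.Agent.S3304
import Cfsg.Agent.S3966

set_option autoImplicit false

namespace Cfsg.Agent.QGroup

open Subgroup
open scoped commutatorElement

universe u

/-- The only involution of a generalized quaternion group. -/
theorem quaternion_involution {N a : ℕ} (hN : N = 2 ^ a) {x : QuaternionGroup N} (hx : x * x = 1)
    (hx1 : x ≠ 1) : x = QuaternionGroup.a (N : ZMod (2 * N)) := by
  haveI : NeZero N := ⟨by rw [hN]; positivity⟩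
  cases x with
  | a i =>
    rw [QuaternionGroup.a_mul_a, QuaternionGroup.one_def, QuaternionGroup.a.injEq] at hx
    congr 1
    have hi : i ≠ 0 := fun h => hx1 (by rw [h, ← QuaternionGroup.one_def])
    have hv : ((i.val + i.val : ℕ) : ZMod (2 * N)) = 0 := by
      rw [Nat.cast_add, ZMod.natCast_zmod_val, hx]
    obtain ⟨c, hc⟩ := (ZMod.natCast_eq_zero_iff _ _).1 hv
    have hlt := ZMod.val_lt i
    have hne : i.val ≠ 0 := fun h => hi ((ZMod.val_eq_zero i).1 h)
    have hN0 : 0 < N := Nat.pos_of_ne_zero (NeZero.ne N)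
    match c, hc with
    | 0, hc => omega
    | 1, hc => rw [← ZMod.natCast_zmod_val i, show i.val = N by omega]
    | c + 2, hc => nlinarith
  | xa i =>
    have h4 := QuaternionGroup.orderOf_xa i
    have : orderOf (QuaternionGroup.xa i) ∣ 2 :=
      orderOf_dvd_of_pow_eq_one (by rw [pow_two]; exact hx)
    rw [h4] at this
    norm_num at this

/-- A nontrivial 2-group has a subgroup of index 2. -/
theorem exists_index_two_of_two_group {A : Type*} [Group A] [Finite A] [Nontrivial A]
    (hA : IsPGroup 2 A) : ∃ M : Subgroup A, M.index = 2 := by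
  haveI := Fact.mk Nat.prime_two
  obtain ⟨k, hk⟩ := IsPGroup.iff_card.1 hA
  rcases k with _ | k
  · exact absurd Finite.one_lt_card (by rw [hk]; norm_num)
  obtain ⟨M, hM⟩ := Sylow.exists_subgroup_card_pow_prime (G := A) 2 (n := k)
    (by rw [hk, pow_succ]; exact dvd_mul_right _ _)
  refine ⟨M, Nat.eq_of_mul_eq_mul_left (Nat.pos_of_ne_zero (pow_ne_zero k two_ne_zero)) ?_⟩
  rw [← hM, M.card_mul_index, hk, hM, pow_succ]

/-- Perfect subgroups lie in every term of the derived series. -/
theorem le_derivedSeries {A : Type*} [Group A] {M : Subgroup A} (hM : ⁅M, M⁆ = M) :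
    ∀ n, M ≤ derivedSeries A n := by
  intro n
  induction n with
  | zero => exact le_top
  | succ n ih => rw [derivedSeries_succ, ← hM]; exact commutator_mono ih ih

variable {K : Type u} [Group K] [Finite K]

variable (hno : ∀ M : Subgroup K, M.index ≠ 2)
  (hP : ∀ P : Sylow 2 K, ∃ m : ℕ, 1 ≤ m ∧ Nonempty ((P : Subgroup K) ≃* QuaternionGroup (2 ^ m)))
  (hO : Cfsg.pPrimeCore 2 K = ⊥)

include hP hO in
theorem card_center_eq_two : Nat.card (center K) = 2 := by
  haveI := Fact.mk Nat.prime_two
  obtain ⟨m, hm, ⟨e⟩⟩ := hP default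
  obtain ⟨n, rfl⟩ : ∃ n, m = n + 1 := ⟨m - 1, by omega⟩
  exact S0201.result default n e fun N hN hodd => by
    have := Cores.le_pPrimeCore (p := 2) hN (Nat.coprime_two_right.2 hodd)
    rwa [hO, le_bot_iff] at this

include hP hO in
theorem involution_central {x : K} (hx : x * x = 1) (hx1 : x ≠ 1) : x ∈ center K := by
  haveI := Fact.mk Nat.prime_two
  obtain ⟨c, hc⟩ := exists_prime_orderOf_dvd_card' (G := center K) 2
    (by rw [card_center_eq_two hP hO])
  have hZ : IsPGroup 2 (center K) := IsPGroup.of_card (n := 1) (card_center_eq_two hP hO)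
  obtain ⟨P, hxP⟩ := (IsPGroup.of_card (n := 1) (by
    rw [Nat.card_zpowers, orderOf_eq_prime (by rw [pow_two]; exact hx) hx1, pow_one]) :
      IsPGroup 2 (zpowers x)).exists_le_sylow
  have hcP : (c : K) ∈ (P : Subgroup K) :=
    (Cores.le_pCore (p := 2) inferInstance hZ).trans (Cores.pCore_le_sylow P) c.2
  obtain ⟨m, -, ⟨e⟩⟩ := hP P
  have hu : ∀ y (hy : y ∈ (P : Subgroup K)), y * y = 1 → y ≠ 1 →
      e ⟨y, hy⟩ = QuaternionGroup.a ((2 ^ m : ℕ) : ZMod (2 * 2 ^ m)) := fun y hy h2 h1 =>
    quaternion_involution rfl (by rw [← map_mul, ← map_one e]; exact congrArg e (Subtype.ext h2))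
      (fun h => h1 (congrArg Subtype.val (e.injective (h.trans (map_one e).symm))))
  have hc2 : (c : K) * c = 1 := by
    have := pow_orderOf_eq_one c
    rw [hc, pow_two] at this
    exact congrArg Subtype.val this
  have hc1 : (c : K) ≠ 1 := fun h => by
    rw [show c = 1 from Subtype.ext h, orderOf_one] at hc
    omega
  have h := (hu x (hxP (mem_zpowers x)) hx hx1).trans (hu c hcP hc2 hc1).symm
  rw [show x = (c : K) from congrArg Subtype.val (e.injective h)]
  exact c.2

include hP hO in
theorem eq_of_involutions {x y : K} (hx : x * x = 1) (hx1 : x ≠ 1) (hy : y * y = 1) (hy1 : y ≠ 1) :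
    x = y := by
  obtain ⟨a, -, ha⟩ := (Nat.card_eq_two_iff' (1 : center K)).1 (card_center_eq_two hP hO)
  have h1 := ha ⟨x, involution_central hP hO hx hx1⟩ fun h => hx1 (congrArg Subtype.val h)
  have h2 := ha ⟨y, involution_central hP hO hy hy1⟩ fun h => hy1 (congrArg Subtype.val h)
  exact congrArg Subtype.val (h1.trans h2.symm)

include hno hP hO in
/-- The solvable case. -/
theorem solvable_case [Group.IsSolvable K] :
    Nonempty (K ≃* Matrix.SpecialLinearGroup (Fin 2) (ZMod 3)) := by
  classical
  haveI := Fact.mk Nat.prime_two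
  set Q := Cfsg.pCore 2 K with hQdef
  haveI : Q.Normal := Cores.pCore_normal 2 K
  have hQp : IsPGroup 2 Q := Cores.isPGroup_pCore 2 K
  have hCQ : centralizer (Q : Set K) ≤ Q := Solvable.centralizer_pCore_le_of_isSolvable hO
  have hnp : ¬ IsPGroup 2 K := fun h => by
    haveI : Nontrivial K := Finite.one_lt_card_iff_nontrivial.1
      (lt_of_lt_of_le (by rw [card_center_eq_two hP hO]; norm_num) (card_le_card_group (center K)))
    obtain ⟨M, hM⟩ := exists_index_two_of_two_group h
    exact hno M hM
  let f : K →* MulAut Q := MulAut.conjNormal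
  have hker : ∀ y, f y = 1 → y ∈ centralizer (Q : Set K) := fun y hy =>
    mem_centralizer_iff.2 fun r hr => by
      have h := congrArg Subtype.val (DFunLike.congr_fun hy (⟨r, hr⟩ : Q))
      rw [MulAut.conjNormal_apply] at h
      exact (mul_inv_eq_iff_eq_mul.1 h).symm
  have hnA : ¬ IsPGroup 2 (MulAut Q) := fun hA => hnp fun y => by
    obtain ⟨j, hj⟩ := hA (f y)
    rw [← map_pow] at hj
    obtain ⟨i, hi⟩ := hQp ⟨_, hCQ (hker _ hj)⟩
    refine ⟨j + i, ?_⟩
    rw [pow_add, pow_mul]
    exact congrArg Subtype.val hi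
  let P : Sylow 2 K := default
  obtain ⟨m, -, ⟨eP⟩⟩ := hP P
  have hQP : Q ≤ (P : Subgroup K) := Cores.pCore_le_sylow P
  obtain ⟨e⟩ : Nonempty (Q ≃* QuaternionGroup 2) := by
    let i : Q →* QuaternionGroup (2 ^ m) := eP.toMonoidHom.comp (inclusion hQP)
    have hi : Function.Injective i := eP.injective.comp (inclusion_injective hQP)
    rcases Transfer.quaternion_subgroup_cases rfl i.range with h | ⟨⟨h⟩⟩
    · exact absurd (Transfer.isPGroup_mulAut_of_equiv (MonoidHom.ofInjective hi) h) hnA
    · exact ⟨(MonoidHom.ofInjective hi).trans h⟩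
  by_cases hns : ∀ S : Sylow 2 K, ¬ (S : Subgroup K).Normal
  · exfalso
    rcases S3304.structure_of_q8 Q hCQ e hns with ⟨⟨g⟩⟩ | ⟨-, -, ⟨g⟩, -⟩
    · refine hno ((Matrix.GeneralLinearGroup.det.comp g.toMonoidHom).ker) ?_
      have hd : Function.Surjective (Matrix.GeneralLinearGroup.det.comp g.toMonoidHom) := fun a => by
        obtain ⟨b, hb⟩ := Matrix.GeneralLinearGroup.det_surjective (n := Fin 2) a
        exact ⟨g.symm b, by simp [hb]⟩
      rw [index_ker, MonoidHom.range_eq_top.2 hd, card_top, Nat.card_units, Nat.card_zmod]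
    · refine hno (((Equiv.Perm.sign).comp g.toMonoidHom).comp (QuotientGroup.mk' _)).ker ?_
      rw [index_ker, MonoidHom.range_eq_top.2
        (((Equiv.Perm.sign_surjective _).comp g.surjective).comp (QuotientGroup.mk'_surjective _)),
        card_top, Nat.card_eq_fintype_card, Fintype.card_units_int]
  push Not at hns
  obtain ⟨S, hS⟩ := hns
  have hSQ : (S : Subgroup K) = Q := le_antisymm (Cores.le_pCore hS S.2) (Cores.pCore_le_sylow S)
  let g : K →* MulAut (Q ⧸ center Q) := (QDWreath.autCenterQuot Q).comp f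
  have hkQ : g.ker = Q := by
    refine le_antisymm (fun y hy => ?_) fun y hy => MonoidHom.mem_ker.2 (MulEquiv.ext fun x => ?_)
    · -- the kernel is a normal 2-group
      refine (Cores.le_pCore (p := 2) inferInstance (fun w => ?_) : g.ker ≤ Q) hy
      have h2 : f (w : K) * f (w : K) = 1 := QDWreath.q8_fixed_of_odd e w.2
      rw [← map_mul] at h2
      obtain ⟨i, hi⟩ := hQp ⟨_, hCQ (hker _ h2)⟩
      refine ⟨1 + i, Subtype.ext ?_⟩
      rw [pow_add, pow_one, pow_mul, SubmonoidClass.coe_pow, SubmonoidClass.coe_pow, pow_two]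
      exact congrArg Subtype.val hi
    · induction x using QuotientGroup.induction_on with | H x => ?_
      show ((f y x : Q) : Q ⧸ center Q) = (x : Q ⧸ center Q)
      have hfy : f y x = (⟨y, hy⟩ : Q) * x * (⟨y, hy⟩ : Q)⁻¹ := Subtype.ext (MulAut.conjNormal_apply _ _)
      rw [hfy, QuotientGroup.eq, mem_center_iff]
      have key : ∀ a b c : QuaternionGroup 2, c * ((a * b * a⁻¹)⁻¹ * b) = (a * b * a⁻¹)⁻¹ * b * c := by
        decide +kernel
      intro w
      exact e.injective (by simpa only [map_mul, map_inv] using key (e ⟨y, hy⟩) (e x) (e w))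
  have hdvd : Q.index ∣ 6 := by
    rw [← hkQ, index_ker]
    exact (card_subgroup_dvd_card _).trans (QDWreath.card_mulAut_dvd_six (QDWreath.q8_card_quot e))
  have hodd : ¬ 2 ∣ Q.index := hSQ ▸ S.not_dvd_index
  have h3 : Q.index = 3 := by
    have h1 : Q.index ≠ 1 := fun h => hnp fun y => by
      obtain ⟨i, hi⟩ := hQp ⟨y, by rw [index_eq_one.1 h]; exact mem_top y⟩
      exact ⟨i, congrArg Subtype.val hi⟩
    have hle := Nat.le_of_dvd (by norm_num) hdvd
    revert hdvd hodd h1 hle
    generalize Q.index = c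
    intro hdvd hodd h1 hle
    interval_cases c <;> revert hdvd hodd h1 <;> norm_num
  have h24 : Nat.card K = 24 := by
    rw [← Q.card_mul_index, h3, QDWreath.q8_card e]
  haveI := Fact.mk Nat.prime_three
  obtain ⟨y, hy⟩ := exists_prime_orderOf_dvd_card' (G := K) 3 (by rw [h24]; norm_num)
  have hyQ : y ∉ Q := fun h => by
    have h1 := Subgroup.orderOf_dvd_natCard _ h
    rw [hy, QDWreath.q8_card e] at h1
    norm_num at h1
  obtain ⟨H, J, hn, ⟨s⟩⟩ := Transfer.exists_slTwoThree_section e
    (normalizer_eq_top (H := Q) ▸ mem_top y) (by rw [hy]; norm_num) fun h => hyQ (hCQ h)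
  have hc : Nat.card (H ⧸ J.subgroupOf H) = 24 := by
    rw [Nat.card_congr s.toEquiv, GLOrder.card_SL_two, Nat.card_zmod]
    norm_num
  have hH : Nat.card H = 24 := le_antisymm (h24 ▸ card_le_card_group H)
    (hc ▸ Nat.le_of_dvd Nat.card_pos (card_quotient_dvd_card _))
  have hJ : J.subgroupOf H = ⊥ := by
    refine eq_bot_of_card_eq _ (Nat.eq_of_mul_eq_mul_right (show 0 < 24 by norm_num) ?_)
    rw [one_mul]
    nth_rw 1 [← hc]
    rw [← index_eq_card, card_mul_index, hH]
  exact ⟨(topEquiv.symm.trans (MulEquiv.subgroupCongr (eq_top_of_card_eq H (hH.trans h24.symm)).symm)).trans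
    (QuotientGroup.quotientBot.symm.trans ((QuotientGroup.quotientMulEquivOfEq hJ.symm).trans s))⟩

include hP hO in
/-- The quotient by the centre has dihedral Sylow 2-subgroups. -/
theorem exists_dihedral_sylow_quotient : ∃ (S : Sylow 2 (K ⧸ center K)) (m : ℕ), 1 ≤ m ∧
    Nonempty ((S : Subgroup (K ⧸ center K)) ≃* DihedralGroup (2 ^ m)) := by
  haveI := Fact.mk Nat.prime_two
  let P : Sylow 2 K := default
  obtain ⟨m, hm, ⟨e⟩⟩ := hP P
  let S : Sylow 2 (K ⧸ center K) := P.mapSurjective (QuotientGroup.mk'_surjective _)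
  let f : (P : Subgroup K) →* (S : Subgroup (K ⧸ center K)) :=
    ((QuotientGroup.mk' (center K)).comp (P : Subgroup K).subtype).codRestrict _ fun x => ⟨x, x.2, rfl⟩
  have hf : Function.Surjective f := fun y => by
    obtain ⟨x, hx, hxy⟩ := y.2
    exact ⟨⟨x, hx⟩, Subtype.ext hxy⟩
  let g : (P : Subgroup K) →* DihedralGroup (2 ^ m) := (S3966.toDihedral (n := 2 ^ m)).comp e.toMonoidHom
  have hg : Function.Surjective g := (S3966.toDihedral_surjective (n := 2 ^ m)).comp e.surjective
  have hk : f.ker = g.ker := by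
    set w : QuaternionGroup (2 ^ m) := QuaternionGroup.a ((2 ^ m : ℕ) : ZMod (2 * 2 ^ m))
    have hw2 : w ^ 2 = 1 := S3966.a_n_sq (2 ^ m)
    have hw : ∀ a : QuaternionGroup (2 ^ m), a ∈ zpowers w → a * a = 1 := by
      rintro _ ⟨i, rfl⟩
      dsimp only
      rw [← (Commute.refl w).mul_zpow, ← pow_two, hw2, one_zpow]
    ext x
    simp only [MonoidHom.mem_ker, g, MonoidHom.comp_apply]
    rw [← MonoidHom.mem_ker (f := S3966.toDihedral (n := 2 ^ m)), S3966.ker_eq]
    constructor
    · intro hx
      have hxc : (x : K) ∈ center K := (QuotientGroup.eq_one_iff (x : K)).1 (congrArg Subtype.val hx)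
      by_cases hx1 : x = 1
      · rw [hx1, map_one]; exact one_mem _
      have hx2 : x * x = 1 := by
        have h := pow_card_eq_one' (G := center K) (x := ⟨_, hxc⟩)
        rw [card_center_eq_two hP hO, pow_two] at h
        exact Subtype.ext (congrArg Subtype.val h :)
      rw [MulEquiv.coe_toMonoidHom, quaternion_involution rfl
        (by rw [← map_mul, hx2, map_one] : e x * e x = 1)
        (fun h => hx1 (e.injective (h.trans (map_one e).symm)))]
      exact mem_zpowers _
    · intro hx
      refine Subtype.ext ((QuotientGroup.eq_one_iff (x : K)).2 ?_)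
      by_cases hx1 : x = 1
      · rw [hx1]; exact one_mem _
      refine involution_central hP hO ?_ fun h => hx1 (Subtype.ext h)
      have h := hw _ hx
      rw [MulEquiv.coe_toMonoidHom, ← map_mul, ← map_one e] at h
      exact congrArg Subtype.val (e.injective h)
  exact ⟨S, m, hm, ⟨((QuotientGroup.quotientKerEquivOfSurjective f hf).symm.trans
    (QuotientGroup.quotientMulEquivOfEq hk)).trans (QuotientGroup.quotientKerEquivOfSurjective g hg)⟩⟩

include hP hO in
/-- The quotient by the centre is core-free. -/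
theorem pPrimeCore_quotient : Cfsg.pPrimeCore 2 (K ⧸ center K) = ⊥ := by
  haveI := Fact.mk Nat.prime_two
  set π := QuotientGroup.mk' (center K)
  set N := Cfsg.pPrimeCore 2 (K ⧸ center K) with hN
  set M := N.comap π with hM
  haveI : M.Normal := inferInstance
  have hZM : center K ≤ M := fun x hx => by
    rw [hM, mem_comap, show π x = 1 from (QuotientGroup.eq_one_iff x).2 hx]
    exact one_mem _
  have hOM : Cfsg.pPrimeCore 2 M = ⊥ := by
    have h := Cores.pPrimeCore_map_subtype M 2
    rw [hO, bot_inf_eq] at h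
    exact (map_eq_bot_iff_of_injective _ M.subtype_injective).1 h
  -- raise to the index of the centre
  have hi : Odd (center M).index := by
    have hle : (center K).subgroupOf M ≤ center M := fun x hx =>
      mem_center_iff.2 fun y => Subtype.ext (mem_center_iff.1 (mem_subgroupOf.1 hx) y)
    refine Odd.of_dvd_nat ?_ (index_dvd_of_le hle)
    have h1 : Nat.card (M.map π) * Nat.card π.ker = Nat.card M :=
      Cores.card_map_mul_ker π M (by rwa [QuotientGroup.ker_mk'])
    rw [map_comap_eq_self_of_surjective (QuotientGroup.mk'_surjective _), QuotientGroup.ker_mk'] at h1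
    have h2 := ((center K).subgroupOf M).card_mul_index
    rw [Cores.card_subgroupOf hZM, ← h1, mul_comm (Nat.card N)] at h2
    rw [Nat.eq_of_mul_eq_mul_left Nat.card_pos h2]
    exact Nat.coprime_two_right.1 (Cores.coprime_card_pPrimeCore 2)
  have hker : (MonoidHom.transferCenterPow M).ker = ⊥ := by
    have h1 : (MonoidHom.transferCenterPow M).ker ≤ Cfsg.pPrimeCore 2 M := by
      refine Cores.le_pPrimeCore inferInstance ?_
      refine ((Nat.Prime.coprime_iff_not_dvd Nat.prime_two).2 fun hd => ?_).symm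
      obtain ⟨x, hx⟩ := exists_prime_orderOf_dvd_card' (G := (MonoidHom.transferCenterPow M).ker) 2 hd
      have hx1 := congrArg Subtype.val (MonoidHom.mem_ker.1 x.2)
      rw [MonoidHom.transferCenterPow_apply] at hx1
      have h2 : orderOf x ∣ (center M).index := orderOf_dvd_of_pow_eq_one (Subtype.ext (by
        rw [SubmonoidClass.coe_pow]; exact hx1))
      rw [hx] at h2
      exact (Nat.not_even_iff_odd.2 hi) (even_iff_two_dvd.2 h2)
    rwa [hOM, le_bot_iff] at h1
  have hcomm : ∀ a b : M, a * b = b * a := fun a b =>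
    (MonoidHom.ker_eq_bot_iff _).1 hker (by rw [map_mul, map_mul, mul_comm'])
  have hM2 : IsPGroup 2 M := fun x => by
    obtain ⟨a, o, ho, hxa⟩ := Nat.exists_eq_two_pow_mul_odd (n := orderOf x) (orderOf_pos x).ne'
    refine ⟨a, ?_⟩
    have hnor : (zpowers (x ^ 2 ^ a)).Normal := ⟨fun w hw g => by
      rwa [hcomm g w, mul_inv_cancel_right]⟩
    have hle := Cores.le_pPrimeCore (p := 2) hnor (by
      rw [Nat.card_zpowers]
      refine Nat.Coprime.coprime_dvd_left (orderOf_dvd_of_pow_eq_one ?_) (Nat.coprime_two_right.2 ho)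
      rw [← pow_mul, ← hxa, pow_orderOf_eq_one])
    rw [hOM] at hle
    exact mem_bot.1 (hle (mem_zpowers _))
  have hN2 : IsPGroup 2 N := by
    have := hM2.map π
    rwa [map_comap_eq_self_of_surjective (QuotientGroup.mk'_surjective _)] at this
  obtain ⟨k, hk⟩ := IsPGroup.iff_card.1 hN2
  refine eq_bot_of_card_eq _ ?_
  have hc := Cores.coprime_card_pPrimeCore (G := K ⧸ center K) 2
  rw [← hN, hk] at hc
  rw [hk]
  exact Nat.eq_one_of_dvd_coprimes (hc.pow_right k) dvd_rfl dvd_rfl

include hP hO in
/-- The nonsolvable case. -/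
theorem nonsolvable_case (hGW : GWReduce.DihedralGW.{u}) (hns : ¬ Group.IsSolvable K) :
    ∃ L : Subgroup K, L.Characteristic ∧ ⁅L, L⁆ = L ∧ (∀ M : Subgroup K, ⁅M, M⁆ = M → M ≤ L) ∧
      center K ≤ L ∧ (∀ l : L, l ∈ center L ↔ (l : K) ∈ center K) ∧
      (∀ k : K, (∀ l ∈ L, ⁅k, l⁆ ∈ center K) → k ∈ center K) ∧
      IsSimpleGroup (L ⧸ center L) ∧
      ((∃ (F : Type) (_ : Field F) (_ : Fintype F), Odd (Fintype.card F) ∧ 3 < Fintype.card F ∧
          Nonempty (L ≃* Matrix.SpecialLinearGroup (Fin 2) F)) ∨
        Nonempty (L ⧸ center L ≃* alternatingGroup (Fin 7))) := by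
  classical
  haveI := Fact.mk Nat.prime_two
  obtain ⟨n, hn⟩ : ∃ n, derivedSeries K (n + 1) = derivedSeries K n := by
    by_contra hne
    push Not at hne
    exact not_injective_infinite_finite _ (strictAnti_nat_of_succ_lt fun n =>
      lt_of_le_of_ne (derivedSeries_antitone K n.le_succ) (hne n)).injective
  set L := derivedSeries K n with hL
  have hLp : ⁅L, L⁆ = L := by rw [← derivedSeries_succ]; exact hn
  haveI hLperf : Group.IsPerfect L := ⟨Frobenius.commutator_eq_top_of_perfect hLp⟩
  have hL1 : L ≠ ⊥ := fun h => hns ((Group.isSolvable_def K).2 ⟨n, h⟩)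
  haveI : Nontrivial L := (Subgroup.nontrivial_iff_ne_bot L).2 hL1
  have hZL : center K ≤ L := by
    have hev : 2 ∣ Nat.card L := by
      rw [← even_iff_two_dvd, ← Nat.not_odd_iff_even]
      exact fun h => Group.IsPerfect.not_isSolvable L (OddOrderTheorem.solvable h)
    obtain ⟨x, hx⟩ := exists_prime_orderOf_dvd_card' (G := L) 2 hev
    have hx2 : (x : K) * x = 1 := by
      have := pow_orderOf_eq_one x
      rw [hx, pow_two] at this
      exact congrArg Subtype.val this
    have hx1 : (x : K) ≠ 1 := fun h => by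
      rw [show x = 1 from Subtype.ext h, orderOf_one] at hx
      omega
    intro c hc
    by_cases hc1 : c = 1
    · rw [hc1]; exact L.one_mem
    have hc2 : c * c = 1 := by
      have h := pow_card_eq_one' (G := center K) (x := ⟨c, hc⟩)
      rw [card_center_eq_two hP hO, pow_two] at h
      exact congrArg Subtype.val h
    rw [eq_of_involutions hP hO hc2 hc1 hx2 hx1]
    exact x.2
  -- the image modulo the centre
  obtain ⟨SX, m, hm, ⟨eX⟩⟩ := exists_dihedral_sylow_quotient hP hO
  set π := QuotientGroup.mk' (center K) with hπ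
  set R := L.map π with hR
  haveI hRn : R.Normal := Subgroup.Normal.map inferInstance π (QuotientGroup.mk'_surjective _)
  let φ : L →* R := π.subgroupMap L
  have hφ : Function.Surjective φ := π.subgroupMap_surjective L
  haveI hRp : Group.IsPerfect R := Group.IsPerfect.ofSurjective hφ
  haveI : Nontrivial R := (Subgroup.nontrivial_iff_ne_bot R).2 fun h => by
    have hle : L ≤ center K := by
      have h1 := (Subgroup.map_eq_bot_iff _).1 h
      rwa [hπ, QuotientGroup.ker_mk'] at h1
    refine hL1 (le_bot_iff.1 (hLp.ge.trans ((commutator_mono le_rfl hle).trans (le_of_eq ?_))))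
    rw [commutator_eq_bot_iff_le_centralizer]
    exact fun x _ => mem_centralizer_iff.2 fun y hy => (mem_center_iff.1 hy x).symm
  have hOR : Cfsg.pPrimeCore 2 R = ⊥ := by
    have h := Cores.pPrimeCore_map_subtype R 2
    rw [pPrimeCore_quotient hP hO, bot_inf_eq] at h
    exact (map_eq_bot_iff_of_injective _ R.subtype_injective).1 h
  have hemb : ∀ U : Subgroup R, IsPGroup 2 U →
      ∃ i : U →* DihedralGroup (2 ^ m), Function.Injective i := fun U hU => by
    obtain ⟨Q, hQ⟩ := (hU.map R.subtype).exists_le_sylow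
    let j : U →* (Q : Subgroup (K ⧸ center K)) := (R.subtype.comp U.subtype).codRestrict _
      fun x => hQ ⟨x, x.2, rfl⟩
    refine ⟨((Q.equiv SX).trans eX).toMonoidHom.comp j, ((Q.equiv SX).trans eX).injective.comp fun x y h =>
      U.subtype_injective (R.subtype_injective (congrArg (fun q : (Q : Subgroup (K ⧸ center K)) => (q : K ⧸ center K)) h))⟩
  let SR : Sylow 2 R := default
  obtain ⟨i, hi⟩ := hemb SR SR.2
  have hnc : ¬ IsCyclic (SR : Subgroup R) := fun hc => by
    have hodd := GWReduce.odd_of_isPerfect_of_local SR fun U hU y hy hco => by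
      haveI := hc
      haveI : IsCyclic U := isCyclic_of_injective (inclusion hU) (inclusion_injective hU)
      exact Transfer.centralizes_of_isPGroup_mulAut
        (Transfer.isPGroup_mulAut_of_isCyclic (SR.2.to_le hU)) hy hco
    exact Group.IsPerfect.not_isSolvable R (OddOrderTheorem.solvable hodd)
  have hnc' : ¬ IsCyclic i.range := fun hc => hnc
    (haveI := hc; isCyclic_of_surjective (MonoidHom.ofInjective hi).symm.toMonoidHom
      (MonoidHom.ofInjective hi).symm.surjective)
  obtain ⟨b, hb, ⟨ed⟩⟩ := RankOneSylow.exists_dihedral_equiv rfl i.range hnc'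
  have eR : (SR : Subgroup R) ≃* DihedralGroup (2 ^ b) := (MonoidHom.ofInjective hi).trans ed
  have hb2 : 2 ≤ 2 ^ b := Nat.le_self_pow (by omega) 2
  obtain ⟨hs, hna⟩ := GWReduce.isSimpleGroup_of_coreFree SR hb2 eR hOR
  haveI := hs
  have hZR : center R = ⊥ := by
    rcases IsSimpleGroup.eq_bot_or_eq_top_of_normal (center R) inferInstance with h | h
    · exact h
    · exact absurd ⟨⟨fun a c => (mem_center_iff.1 (h ▸ mem_top a) c).symm⟩⟩ hna
  -- the centralizer of the image
  have hCR : centralizer (R : Set (K ⧸ center K)) = ⊥ := by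
    obtain ⟨U, hU⟩ := GWReduce.exists_klein (G := R) rfl hemb
    have hodd : (Nat.card (centralizer (R : Set (K ⧸ center K)))).Coprime 2 := by
      refine ((Nat.Prime.coprime_iff_not_dvd Nat.prime_two).2 fun hd => ?_).symm
      obtain ⟨c, hc⟩ := exists_prime_orderOf_dvd_card'
        (G := centralizer (R : Set (K ⧸ center K))) 2 hd
      rw [← Subgroup.orderOf_coe] at hc
      have hcU : (c : K ⧸ center K) ∈ U.map R.subtype :=
        GWReduce.mem_of_centralizes_klein SX (pow_ne_zero _ two_ne_zero) eX
          (Transfer.isKleinFour_map R.subtype_injective hU)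
          (by rw [← pow_two, ← hc, pow_orderOf_eq_one])
          (centralizer_le (map_subtype_le U) c.2)
      obtain ⟨w, -, hw⟩ := hcU
      have hwc : w ∈ center R := mem_center_iff.2 fun v => Subtype.ext (by
        have := mem_centralizer_iff.1 c.2 v v.2
        rw [← hw] at this
        exact this)
      rw [hZR, mem_bot] at hwc
      rw [← hw, hwc, map_one, orderOf_one] at hc
      omega
    have := Cores.le_pPrimeCore (inferInstance : (centralizer (R : Set (K ⧸ center K))).Normal) hodd
    rwa [pPrimeCore_quotient hP hO, le_bot_iff] at this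
  have hcL : ∀ l : L, l ∈ center L ↔ (l : K) ∈ center K := fun l => by
    constructor
    · intro hl
      have h1 : φ l ∈ center R := mem_center_iff.2 fun r => by
        obtain ⟨y, rfl⟩ := hφ r
        rw [← map_mul, ← map_mul, mem_center_iff.1 hl y]
      rw [hZR, mem_bot] at h1
      exact (QuotientGroup.eq_one_iff (l : K)).1 (congrArg Subtype.val h1)
    · exact fun hl => mem_center_iff.2 fun y => Subtype.ext (mem_center_iff.1 hl y)
  have hkerφ : φ.ker = center L := by
    ext l
    rw [MonoidHom.mem_ker, hcL]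
    exact ⟨fun h => (QuotientGroup.eq_one_iff (l : K)).1 (congrArg Subtype.val h),
      fun h => Subtype.ext ((QuotientGroup.eq_one_iff (l : K)).2 h)⟩
  have eQ : L ⧸ center L ≃* R :=
    (QuotientGroup.quotientMulEquivOfEq hkerφ.symm).trans (QuotientGroup.quotientKerEquivOfSurjective φ hφ)
  refine ⟨L, inferInstance, hLp, fun M hM => le_derivedSeries hM n, hZL, hcL, fun k hk => ?_,
    haveI : Nontrivial (L ⧸ center L) := eQ.toEquiv.nontrivial
    IsSimpleGroup.isSimpleGroup_of_surjective eQ.symm.toMonoidHom eQ.symm.surjective, ?_⟩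
  · have h1 : π k ∈ centralizer (R : Set (K ⧸ center K)) := mem_centralizer_iff.2 fun r hr => by
      obtain ⟨l, hl, rfl⟩ := hr
      have h := (QuotientGroup.eq_one_iff _).2 (hk l hl)
      have h' : ⁅π k, π l⁆ = 1 := by rw [← map_commutatorElement]; exact h
      exact (commutatorElement_eq_one_iff_mul_comm.1 h').symm
    rw [hCR, mem_bot] at h1
    exact (QuotientGroup.eq_one_iff k).1 h1
  · rcases hGW R hs hna SR (2 ^ b) hb2 ⟨eR⟩ with ⟨F, hF1, hF2, hodd, ⟨g⟩⟩ | g
    · have h3 : 3 < Fintype.card F := by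
        by_contra h3
        have h1 : 1 < Fintype.card F := Fintype.one_lt_card
        have hc : Fintype.card F = 3 := by obtain ⟨k, hk⟩ := hodd; omega
        have hsl : Group.IsSolvable (Matrix.SpecialLinearGroup (Fin 2) F) := by
          refine CharApp.isSolvable_of_card_eq_prime_pow_mul 2 3 Nat.prime_two Nat.prime_three _ _ rfl 3 1 ?_
          rw [GLOrder.card_SL, Nat.card_eq_fintype_card, hc]
          rfl
        have hpsl : Group.IsSolvable (Matrix.ProjectiveSpecialLinearGroup (Fin 2) F) :=
          Group.isSolvable_of_surjective (f := QuotientGroup.mk' _) (QuotientGroup.mk'_surjective _)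
        haveI : Group.IsSolvable R :=
          Group.isSolvable_of_surjective (f := g.symm.toMonoidHom) g.symm.surjective
        exact Group.IsPerfect.not_isSolvable R inferInstance
      refine Or.inl ⟨F, hF1, hF2, hodd, h3,
        sl_two_of_double_cover hodd h3 (g.toMonoidHom.comp φ) (g.surjective.comp hφ) ?_ ?_⟩
      · rw [show (g.toMonoidHom.comp φ).ker = φ.ker by ext l; simp, hkerφ]
      · rw [show (g.toMonoidHom.comp φ).ker = φ.ker by ext l; simp, hkerφ, ← card_center_eq_two hP hO]
        exact Nat.card_congr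
          { toFun := fun l => ⟨((l : L) : K), (hcL l).1 l.2⟩
            invFun := fun c => ⟨⟨c, hZL c.2⟩, (hcL _).2 c.2⟩
            left_inv := fun _ => rfl
            right_inv := fun _ => rfl }
    · exact Or.inr (g.map fun g => eQ.trans g)

end Cfsg.Agent.QGroup
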