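/-
A finite field in any universe has a copy in `Type`.
-/
import Mathlib.Algebra.Field.Shrink
import Mathlib.Algebra.Ring.Shrink
import Mathlib.Data.Fintype.EquivFin
import Mathlib.Logic.Small.Basic
import Mathlib.LinearAlgebra.Matrix.SpecialLinearGroup
import Mathlib.SetTheory.Cardinal.Finite
import Cfsg.Agent.EqLemmas

/-!
* `exists_small` : a group isomorphic to `SL₂` of a finite field is `SL₂` of one in `Type`.
-/

set_option autoImplicit false
set_option linter.style.haveILetI false

namespace Cfsg.Agent.QGroup

theorem exists_small {M : Type*} [Group M] {F : Type*} [Field F] [Fintype F]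
    (e : M ≃* Matrix.SpecialLinearGroup (Fin 2) F) :
    ∃ (F' : Type) (_ : Field F') (_ : Fintype F'), Nat.card F' = Nat.card F ∧
      Nonempty (M ≃* Matrix.SpecialLinearGroup (Fin 2) F') := by
  haveI : Small.{0} F := ⟨⟨_, ⟨Fintype.equivFin F⟩⟩⟩
  letI : Fintype (Shrink.{0} F) := Fintype.ofEquiv F (equivShrink F)
  let φ : Shrink.{0} F ≃+* F := Shrink.ringEquiv F
  refine ⟨Shrink.{0} F, inferInstance, inferInstance, Nat.card_congr φ.toEquiv, ⟨e.trans ?_⟩⟩
  refine
    { toFun := Matrix.SpecialLinearGroup.map φ.symm.toRingHom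
      invFun := Matrix.SpecialLinearGroup.map φ.toRingHom
      left_inv := fun g => ?_
      right_inv := fun g => ?_
      map_mul' := map_mul _ } <;> ext i j <;> simp

end Cfsg.Agent.QGroup
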